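import Cfsg.Agent.Lib.Recog.HsTwoLocal.Certs.PSplit.Tree0
import Cfsg.Agent.Lib.Recog.HsTwoLocal.Certs.PSplit.Tree1

set_option autoImplicit false
set_option maxRecDepth 20000

/-! Generated certificate: the group of order 1536 (tools/cosetbound/gen_pairs.py; owner: helper21). -/

namespace CfsgLib.Recog.HsTwoLocal.Certs.PSplit
open CfsgLib.Recog.SporBound (Q)

noncomputable def factTree : Q (ℕ) := (.node (.node ft5 ft11 ft17 ft23) (.node ft29 ft35 ft41 ft47) (.node ft53 ft59 ft65 ft70) (.node ft76 ft82 ft88 ft93))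
noncomputable def nodeTree : Q (ℕ) := ct12
noncomputable def stepTree : Q (List ℕ) := (.node (.node st8 st17 st26 st35) (.node st44 st53 st62 st71) (.node st80 st89 st98 st107) (.node st116 st125 st134 st142))
noncomputable def finalTree : Q (List ℕ) := (.node (.node et9 et19 et29 et39) (.node et49 et59 et69 et79) (.node et89 et99 et109 et119) (.node et129 et139 et149 et159))

/-- The certificate. -/
noncomputable def cert : CfsgLib.Sporadic.PairEnum.Cert where
  n := 1536
  nd := 1881
  nf := 9962
  nl := 12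
  kl := [0, 2, 4, 6, 8, 10]
  facts := factTree
  cn := nodeTree
  steps := stepTree
  finals := finalTree
  rels := [[0, 0, 0, 0],
    [2, 2, 2, 2],
    [4, 4, 4, 4],
    [3, 1, 2, 0],
    [5, 1, 4, 0],
    [5, 3, 4, 2],
    [6, 6, 6],
    [8, 8],
    [10, 10],
    [6, 9, 6, 8],
    [5, 7, 2, 6],
    [4, 2, 1, 7, 4, 6],
    [4, 9, 2, 8],
    [7, 11, 6, 9, 10, 8],
    [6, 11, 7, 7, 10, 6, 10],
    [11, 5, 2, 2, 1, 10, 5]]
  subs := []

/-- Traced words with their chains. -/
noncomputable def closers : List (List ℕ × ℕ) :=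
  []

end CfsgLib.Recog.HsTwoLocal.Certs.PSplit
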